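import Groth.Agent.SGA3x.K13.NTorsion
import Groth.Agent.SGA3x.K14.PowLift
import Groth.Agent.SGA3x.K14.SmoothFinMT
import Groth.Agent.Sga3B.Trans894
import Mathlib.GroupTheory.FiniteAbelian.Basic

/-!
# Torsion of split tori: kernels, finiteness, étaleness
-/

set_option autoImplicit false
universe u
open CategoryTheory MonoidalCategory CartesianMonoidalCategory MonObj GrpObj AlgebraicGeometry Limits
open Groth.Agent Groth.Agent.Sga3B Groth.Agent.Books Groth.Agent.Books.AffBridge

namespace K13.CT.Tors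

open K13.NTorsion

variable {S : Scheme.{u}}

/-- The torsion subgroup is the kernel of the power map. -/
theorem isKernel {L H : Over S} [GrpObj H] {ℓ : L ⟶ H} [Mono ℓ] (n : ℕ)
    (hp : ∀ (X : Over S) (h : X ⟶ H), (∃ y : X ⟶ L, y ≫ ℓ = h) ↔ h ^ n = 1) :
    AlgGrp.IsKernel ℓ ((𝟙 H : H ⟶ H) ^ n) := by
  have hw : ℓ ≫ (𝟙 H : H ⟶ H) ^ n = toUnit L ≫ η[H] := by
    rw [MonObj.comp_pow, Category.comp_id, (hp L ℓ).1 ⟨𝟙 _, Category.id_comp _⟩]
    rfl
  have hs : ∀ s : PullbackCone ((𝟙 H : H ⟶ H) ^ n) η[H], s.fst ^ n = 1 := fun s => by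
    have h1 := s.condition
    rw [MonObj.comp_pow, Category.comp_id] at h1
    rw [h1, toUnit_unique s.snd (toUnit _)]
    rfl
  refine ⟨⟨hw⟩, ⟨PullbackCone.IsLimit.mk hw (fun s => ((hp s.pt s.fst).2 (hs s)).choose) (fun s => ?_)
    (fun s => toUnit_unique _ _) (fun s m h₁ h₂ => ?_)⟩⟩
  · exact ((hp s.pt s.fst).2 (hs s)).choose_spec
  · rw [← cancel_mono ℓ, h₁]
    exact (((hp s.pt s.fst).2 (hs s)).choose_spec).symm

theorem isKernel_of_isTors {L H : Over S} [GrpObj L] [GrpObj H] {ℓ : L ⟶ H} {n : ℕ} (h : IsTors n ℓ) :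
    AlgGrp.IsKernel ℓ ((𝟙 H : H ⟶ H) ^ n) := by
  have := h.mono
  exact isKernel n h.pts

/-- The `n`-torsion of a flat commutative group is étale if `n` is invertible on the base. -/
theorem etale_of_isTors {L H : Over S} [GrpObj L] [GrpObj H] {ℓ : L ⟶ H} {n : ℕ} (h : IsTors n ℓ)
    [Flat H.hom] [LocallyOfFinitePresentation H.hom] (hc : ∀ (X : Over S) (x y : X ⟶ H), x * y = y * x)
    (hn : ∀ s : S, ((n : ℕ) : S.residueField s) ≠ 0) : Etale L.hom := by
  have h1 : Etale ((𝟙 H : H ⟶ H) ^ n).left := by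
    refine K203.Loc.property_of_forall fun x => ?_
    let K := H.left.residueField x
    let c : Spec K ⟶ H.left := H.left.fromSpecResidueField x
    have hnK : ((n : ℕ) : K) ≠ 0 := by
      intro h0
      let φ : S.residueField (H.hom x) →+* K := (H.hom.residueFieldMap x).hom
      have h1 : φ n = n := map_natCast φ n
      exact hn _ ((map_eq_zero φ).1 (h1.trans h0))
    have h1 := K14.PowLift.near_of_central H n (K := K) hnK (c ≫ H.hom) (Over.homMk c rfl)
      (fun X t g => hc X _ _) (IsLocalRing.closedPoint K)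
    have h3 : c (IsLocalRing.closedPoint K) = x := Scheme.fromSpecResidueField_apply _ _
    change c (IsLocalRing.closedPoint K) ∈ K14.PowLift.E H n at h1
    rw [h3] at h1
    exact h1
  have h2 := (isKernel_of_isTors h).map (Over.forget S)
  have h3 : Etale (toUnit L).left := MorphismProperty.of_isPullback (P := @Etale) h2 h1
  have : IsIso (𝟙_ (Over S)).hom := inferInstanceAs (IsIso (𝟙 S))
  rw [← Over.w (toUnit L)]
  infer_instance

lemma finite_quot (r n : ℕ) (hn : 0 < n) : Finite ((Fin r → ℤ) ⧸ nM n (Fin r → ℤ)) := by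
  have : AddGroup.FG ((Fin r → ℤ) ⧸ nM n (Fin r → ℤ)) := inferInstance
  refine AddCommGroup.finite_of_fg_isAddTorsion _ fun x => ?_
  obtain ⟨y, rfl⟩ := QuotientAddGroup.mk'_surjective _ x
  rw [isOfFinAddOrder_iff_nsmul_eq_zero]
  refine ⟨n, hn, ?_⟩
  rw [← map_nsmul]
  exact (QuotientAddGroup.eq_zero_iff _).2 ⟨y, rfl⟩

/-- `D(N)` is finite for a finite group `N`. -/
theorem isFinite_DS (R : Type u) [CommRing R] (N : Type) [AddCommGroup N] [Finite N] :
    IsFinite (Red.DS (Spec (CommRingCat.of R)) N).hom := by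
  have h1 : IsFinite (SpecOver R (MonoidAlgebra R (Multiplicative N))).hom := by
    change IsFinite (Spec.map (CommRingCat.ofHom (algebraMap R (MonoidAlgebra R (Multiplicative N)))))
    rw [IsFinite.SpecMap_iff]
    have : Module.Finite R (MonoidAlgebra R (Multiplicative N)) :=
      Module.Finite.of_basis (MonoidAlgebra.basis (Multiplicative N) R)
    exact RingHom.finite_algebraMap.2 this
  have : IsIso (DSAff.dsFrom R N).left := inferInstanceAs (IsIso ((Over.forget _).map (DSAff.dsFrom R N)))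
  have e : (Red.DS (Spec (CommRingCat.of R)) N).hom =
      inv (DSAff.dsFrom R N).left ≫ (SpecOver R (MonoidAlgebra R (Multiplicative N))).hom := by
    rw [IsIso.eq_inv_comp]
    exact Over.w _
  rw [e]
  infer_instance

end K13.CT.Tors
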