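import Groth.Agent.SGA3x.K13.CT.Lim

/-!
# The lifting property for central monomorphic homomorphisms

`LiftP i T G`: every central monomorphic homomorphism `T ×_S S₀ ⟶ G ×_S S₀` is the base change along `i : S₀ ⟶ S` of a
homomorphism `T ⟶ G`.
* `LiftP.of_iso`, `LiftP.of_iso_base`: invariance under isomorphisms;
* `of_stages`: passage to the limit.
-/

set_option autoImplicit false
set_option backward.isDefEq.respectTransparency false
set_option backward.defeqAttrib.useBackward true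
universe u
open CategoryTheory CategoryTheory.Limits MonoidalCategory CartesianMonoidalCategory MonObj GrpObj AlgebraicGeometry

namespace K13.CT

open K210.LimHom Groth.Agent.Ega43.LimitDescend K13.CT.Lim

/-- Central monomorphic homomorphisms lift along `i`. -/
def LiftP {S₀ S : Scheme.{u}} (i : S₀ ⟶ S) (T G : Over S) [GrpObj T] [GrpObj G] : Prop :=
  ∀ u₀ : Red.bc i T ⟶ Red.bc i G, IsMonHom u₀ → Mono u₀ → IsCentral u₀ →
    ∃ u : T ⟶ G, IsMonHom u ∧ (Over.pullback i).map u = u₀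

section

variable {S₀ S : Scheme.{u}} {i : S₀ ⟶ S} {T G T' G' : Over S} [GrpObj T] [GrpObj G] [GrpObj T'] [GrpObj G']

/-- Invariance under isomorphisms of the groups. -/
theorem LiftP.of_iso (h : LiftP i T G) (e : T ≅ T') [IsMonHom e.hom] (e' : G ≅ G') [IsMonHom e'.hom] :
    LiftP i T' G' := by
  intro u₀ h1 h2 h3
  have he : IsMonHom e.inv := inferInstance
  have he' : IsMonHom e'.inv := inferInstance
  let F := Over.pullback i
  have hc : IsCentral (F.map e.hom ≫ u₀ ≫ F.map e'.inv) := by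
    have : IsMonHom (F.mapIso e'.symm).hom := inferInstanceAs (IsMonHom (F.map e'.inv))
    exact isCentral_conj u₀ (F.map e.hom) (F.mapIso e'.symm) h3
  obtain ⟨u, hu, hu'⟩ := h (F.map e.hom ≫ u₀ ≫ F.map e'.inv) inferInstance inferInstance hc
  refine ⟨e.inv ≫ u ≫ e'.hom, inferInstance, ?_⟩
  have a1 : F.map e.inv ≫ F.map e.hom = 𝟙 _ := by
    rw [← Functor.map_comp, Iso.inv_hom_id, CategoryTheory.Functor.map_id]
  have a2 : F.map e'.inv ≫ F.map e'.hom = 𝟙 _ := by
    rw [← Functor.map_comp, Iso.inv_hom_id, CategoryTheory.Functor.map_id]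
  rw [Functor.map_comp, Functor.map_comp, hu']
  have a3 : F.map e.inv ≫ (F.map e.hom ≫ u₀ ≫ F.map e'.inv) ≫ F.map e'.hom =
      (F.map e.inv ≫ F.map e.hom) ≫ u₀ ≫ F.map e'.inv ≫ F.map e'.hom := by simp only [Category.assoc]
  refine a3.trans ?_
  rw [a1, a2]
  exact (Category.id_comp _).trans (Category.comp_id _)

/-- The lifting property in terms of `mv`. -/
theorem LiftP.exists_mv {S₁ : Scheme.{u}} {j : S₀ ⟶ S₁} {f : S₁ ⟶ S} (h : LiftP j (Red.bc f T) (Red.bc f G))
    {d : S₀ ⟶ S} (hd : j ≫ f = d) (v : Red.bc d T ⟶ Red.bc d G) [IsMonHom v] [Mono v] (hv : IsCentral v) :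
    ∃ w : Red.bc f T ⟶ Red.bc f G, IsMonHom w ∧ mv j f hd w = v := by
  have : IsMonHom (ActBC.bcCompIso j f G hd).symm.hom := inferInstanceAs (IsMonHom (ActBC.bcCompIso j f G hd).inv)
  obtain ⟨w, hw, hw'⟩ := h ((ActBC.bcCompIso j f T hd).hom ≫ v ≫ (ActBC.bcCompIso j f G hd).inv) inferInstance
    inferInstance (isCentral_conj _ _ (ActBC.bcCompIso j f G hd).symm hv)
  refine ⟨w, hw, ?_⟩
  rw [← map_eq_iff_mv, hw']

/-- Invariance under isomorphisms of the closed subscheme. -/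
theorem LiftP.of_iso_base (h : LiftP i T G) {S₀' : Scheme.{u}} {i' : S₀' ⟶ S} (e : S₀ ≅ S₀') (he : e.hom ≫ i' = i) :
    LiftP i' T G := by
  intro u₀ h1 h2 h3
  have h2' : Mono ((Over.pullback e.hom).map u₀) := inferInstance
  have h4 : Mono (mv e.hom i' he u₀) := (mono_mv_iff _ _ he u₀).mpr h2'
  have h5 : IsCentral (mv e.hom i' he u₀) := (isCentral_mv_iff _ _ he u₀).mpr (by
    have := isCentral_map_comp e.hom (𝟙 S₀') (d := e.hom) (Category.comp_id _) u₀
    refine this ?_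
    rw [isCentral_map_iff]
    rw [isCentral_iff] at h3
    rw [h3])
  obtain ⟨u, hu, hu'⟩ := h (mv e.hom i' he u₀) inferInstance h4 h5
  refine ⟨u, hu, ?_⟩
  have h6 : e.inv ≫ i = i' := by rw [← he, Iso.inv_hom_id_assoc]
  have h7 := congrArg (mv e.inv i h6) hu'
  rw [mv_map, mv_mv e.inv e.hom i' e.inv_hom_id he (Category.id_comp i') h6] at h7
  rw [h7]
  have h8 : (Over.pullback (𝟙 S₀')).map u₀ = (ActBC.bcCompIso (𝟙 S₀') i' T (Category.id_comp i')).hom ≫ u₀ ≫
      (ActBC.bcCompIso (𝟙 S₀') i' G (Category.id_comp i')).inv := by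
    rw [← Category.assoc, Iso.eq_comp_inv]
    apply bc_hom_ext
    rw [Over.comp_left, Over.comp_left, Category.assoc, Category.assoc, ActBC.bcCompIso_hom_left_fst,
      ActBC.pullback_map_left_fst_assoc]
    have h9 : (ActBC.bcCompIso (𝟙 S₀') i' T (Category.id_comp i')).hom.left = pullback.fst _ (𝟙 S₀') := by
      apply pullback.hom_ext
      · rw [ActBC.bcCompIso_hom_left_fst]
      · rw [ActBC.bcCompIso_hom_left_snd]
        have := pullback.condition (f := (Red.bc i' T).hom) (g := 𝟙 S₀')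
        rw [Category.comp_id] at this
        exact this.symm
    rw [h9]
  exact (map_eq_iff_mv _ _ _ _ _).mp h8

end

section limit

theorem cp_injective {S S₁ S₂ : Scheme.{u}} (g : S₂ ⟶ S₁) (f : S₁ ⟶ S) {d : S₂ ⟶ S} (h : g ≫ f = d) {X Y : Over S}
    {v w : Red.bc g (Red.bc f X) ⟶ Red.bc g (Red.bc f Y)} (e : cp g f h v = cp g f h w) : v = w := by
  unfold cp at e
  rwa [cancel_epi, cancel_mono] at e

variable {I : Type u} [SmallCategory I] [IsCofiltered I]
    {D : I ⥤ Scheme.{u}} {c : Cone D} (hc : IsLimit c)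
    [∀ (i i' : I) (f : i ⟶ i'), IsAffineHom (D.map f)]
    [∀ i, CompactSpace (D.obj i)] [∀ i, QuasiSeparatedSpace (D.obj i)]

include hc

/-- **Passage to the limit.** -/
theorem of_stages {k : I} (T G : Over (D.obj k)) [GrpObj T] [GrpObj G]
    [LocallyOfFinitePresentation T.hom] [QuasiCompact T.hom] [QuasiSeparated T.hom]
    [LocallyOfFinitePresentation G.hom] [QuasiCompact G.hom] [QuasiSeparated G.hom]
    {Z S₀ : Scheme.{u}} (i₀ : Z ⟶ D.obj k) [QuasiCompact i₀] [QuasiSeparated i₀] (q : S₀ ⟶ Z) (p : S₀ ⟶ c.pt)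
    (hp : IsPullback q p i₀ (c.π.app k))
    (hl : ∀ (l : I) (f : l ⟶ k), LiftP (pullback.snd i₀ (D.map f)) (Red.bc (D.map f) T) (Red.bc (D.map f) G)) :
    LiftP p (Red.bc (c.π.app k) T) (Red.bc (c.π.app k) G) := by
  intro u₀ h1 h2 h3
  have hpq : p ≫ c.π.app k = q ≫ i₀ := hp.w.symm
  have h4 : IsMonHom (cp p (c.π.app k) hpq u₀) := by unfold cp; infer_instance
  have h5 : Mono (cp p (c.π.app k) hpq u₀) := by unfold cp; infer_instance
  have h6 : IsCentral (cp p (c.π.app k) hpq u₀) :=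
    isCentral_conj _ _ (ActBC.bcCompIso p (c.π.app k) G hpq) h3
  obtain ⟨l, f, v, a, ha1, ha2, hv1, hv2, hv3, hv4⟩ := exists_stage_closed hc T G i₀ q p hp
    (cp p (c.π.app k) hpq u₀) h6
  have hd : pullback.snd i₀ (D.map f) ≫ D.map f = pullback.fst i₀ (D.map f) ≫ i₀ := pullback.condition.symm
  obtain ⟨w, hw, hw'⟩ := (hl l f).exists_mv hd v hv3
  refine ⟨mv (c.π.app l) (D.map f) (c.w f) w, inferInstance, ?_⟩
  apply cp_injective p (c.π.app k) hpq
  change mv p (c.π.app k) hpq (mv (c.π.app l) (D.map f) (c.w f) w) = _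
  have e1 : (p ≫ c.π.app l) ≫ D.map f = q ≫ i₀ := by rw [Category.assoc, c.w, hpq]
  rw [mv_mv p (c.π.app l) (D.map f) rfl (c.w f) e1 hpq, ← hv4, ← hw',
    mv_mv a (pullback.snd i₀ (D.map f)) (D.map f) ha2 hd e1]

end limit

end K13.CT
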