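import Groth.Agent.SGA3x.K13.CT.Noeth
import Groth.Agent.SGA3x.K13.CT.LiftP
import Groth.Agent.AlgSp.K634.Quot
import Groth.Agent.Sga3.H806.ApproxProp
import Groth.Agent.Smoothlim.FlatDescend
import Mathlib.RingTheory.Nilpotent.Lemmas

/-!
# Lifting central monomorphic homomorphisms from split tori: noetherian approximation
-/

set_option autoImplicit false

universe u

open CategoryTheory MonoidalCategory CartesianMonoidalCategory MonObj GrpObj AlgebraicGeometry Limits Opposite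
open Groth.Agent Groth.Agent.Sga3B K10.MTLoc K13.MTLift

namespace K13.CT.Split

open K13.CentralEtale K210.LimHom Groth.Agent.Flat2D.SpecFGLimit

/-- noetherian case, for groups isomorphic to split tori -/
theorem noeth (h8440 : type_of% @SGA3x.GrothFrozen.S8440.{u}) {A : Type u} [CommRing A] [IsNoetherianRing A]
    {J : Ideal A} (hJ : IsNilpotent J) (r : ℕ)
    (T G : Over (Spec (CommRingCat.of A))) [GrpObj T] [GrpObj G]
    (e : Grp.mk (Red.DS (Spec (CommRingCat.of A)) (Fin r → ℤ)) ≅ Grp.mk T) (h1 : Flat G.hom)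
    (h2 : QuasiCompact G.hom) (h3 : QuasiSeparated G.hom) (h4 : LocallyOfFinitePresentation G.hom)
    (q : ℕ) (hq : 1 < q) (hqu : IsUnit (q : A)) : LiftP (cl J) T G := by
  have h : LiftP (cl J) (Red.DS (Spec (CommRingCat.of A)) (Fin r → ℤ)) G := fun u₀ _ _ hc =>
    Noeth.main h8440 hJ r G u₀ hc q hq hqu
  have hG : IsMonHom (Iso.refl G).hom := inferInstanceAs (IsMonHom (𝟙 G))
  exact h.of_iso (isoOf e) (Iso.refl G)

theorem noeth_of_fg {A : Type u} [CommRing A] (B : Subalgebra ℤ A) (h : B.FG) : IsNoetherianRing B := by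
  have := (Subalgebra.fg_iff_finiteType _).1 h
  exact Algebra.FiniteType.isNoetherianRing ℤ _

theorem nilpotent_of_fg {A : Type u} [CommRing A] {J : Ideal A} (hfg : J.FG) (hJ : ∀ x ∈ J, IsNilpotent x) :
    IsNilpotent J := by
  rw [Ideal.FG.isNilpotent_iff_le_nilradical hfg]
  intro x hx
  exact hJ x hx

theorem main (h8440 : type_of% @SGA3x.GrothFrozen.S8440.{u}) {A : Type u} [CommRing A]
    {J : Ideal A} (hfg : J.FG) (hJ : ∀ x ∈ J, IsNilpotent x) (r : ℕ)
    (T G : Over (Spec (CommRingCat.of A))) [GrpObj T] [GrpObj G]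
    (e : Grp.mk T ≅ Grp.mk (Red.DS (Spec (CommRingCat.of A)) (Fin r → ℤ))) [Flat G.hom]
    [QuasiCompact G.hom] [QuasiSeparated G.hom] [LocallyOfFinitePresentation G.hom]
    (q : ℕ) (hq : 1 < q) (hqu : IsUnit (q : A)) : LiftP (cl J) T G := by
  let D := specDiagram A
  let c := specCone A
  have i1 : ∀ i, CompactSpace (D.obj i) := fun i => inferInstance
  have i2 : ∀ i, QuasiSeparatedSpace (D.obj i) := fun i => inferInstance
  have i3 : ∀ i i' (f : i ⟶ i'), IsAffineHom (D.map f) := fun i i' f => inferInstance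
  let G' : Over c.pt := G
  let gG : GrpObj G' := ‹GrpObj G›
  have iX1 : LocallyOfFinitePresentation G'.hom := ‹LocallyOfFinitePresentation G.hom›
  have iX2 : QuasiCompact G'.hom := ‹QuasiCompact G.hom›
  have iX3 : QuasiSeparated G'.hom := ‹QuasiSeparated G.hom›
  obtain ⟨k₁, G₁, _, g1, g2, g3, g4, g5⟩ := Sga3.H806.ApproxProp.exists_stage_prop (P := @Flat)
    (Q := @LocallyOfFinitePresentation ⊓ @QuasiCompact) (fun f h1 h2 h3 => ⟨h1, h2⟩)
    Smoothlim.LimBase.descendsAffine_flat (isLimitSpecCone A) G' (inferInstanceAs (Flat G.hom))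
  obtain ⟨s, hs⟩ := hfg
  obtain ⟨q', hq'⟩ := hqu.exists_right_inv
  let B : Subalgebra ℤ A := k₁.unop.1 ⊔ Algebra.adjoin ℤ (insert q' (s : Set A))
  have hB : B.FG := k₁.unop.2.sup (Subalgebra.fg_def.2 ⟨_, (Finset.finite_toSet s).insert q', rfl⟩)
  let k : (FGSub A)ᵒᵖ := op ⟨B, hB⟩
  let g : k ⟶ k₁ := (homOfLE (show k₁.unop.1 ≤ B from le_sup_left)).op
  have hsB : ∀ x ∈ (insert q' (s : Set A)), x ∈ B := fun x hx =>
    (le_sup_right : Algebra.adjoin ℤ (insert q' (s : Set A)) ≤ B) (Algebra.subset_adjoin hx)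
  let J₂ : Ideal B := (J.comap (B.val : B →+* A))
  have hJ₂ : J₂.map (B.val : B →+* A) = J := by
    apply le_antisymm
    · exact Ideal.map_comap_le
    · rw [← hs, Ideal.span_le]
      intro x hx
      have hxB : x ∈ B := hsB x (Set.mem_insert_of_mem _ hx)
      have : (⟨x, hxB⟩ : B) ∈ J₂ := by
        change (B.val : B →+* A) ⟨x, hxB⟩ ∈ J
        rw [← hs]
        exact Ideal.subset_span hx
      exact Ideal.mem_map_of_mem (B.val : B →+* A) this
  have hBN : IsNoetherianRing B := noeth_of_fg B hB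
  have hJ₂n : IsNilpotent J₂ := nilpotent_of_fg (IsNoetherian.noetherian J₂) (fun x hx => by
    obtain ⟨n, hn⟩ := hJ _ hx
    exact ⟨n, Subtype.ext (by simpa using hn)⟩)
  obtain ⟨e₂⟩ := Sga3.H806.ApproxProp.nonempty_iso_up g G₁ g5
  let G₂ : Over (D.obj k) := Red.bc (D.map g) G₁
  have j1 : LocallyOfFinitePresentation G₂.hom := MorphismProperty.pullback_snd _ _ g1
  have j2 : QuasiCompact G₂.hom := MorphismProperty.pullback_snd _ _ g2
  have j3 : QuasiSeparated G₂.hom := MorphismProperty.pullback_snd _ _ g3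
  have j4 : Flat G₂.hom := MorphismProperty.pullback_snd _ _ g4
  let T₂ : Over (D.obj k) := Red.DS (D.obj k) (Fin r → ℤ)
  have hMT : SGA3x.IsMultTypeFT T₂ :=
    K21.MultLoc.isMultTypeFT_of_isTorus (Trans894.isTorus_DS (D.obj k) (Fin r → ℤ))
  have t1 := K10.MTLoc.isAffineHom hMT
  have t2 := K10.MTLoc.locallyOfFinitePresentation hMT
  let i₀ : Spec (CommRingCat.of (B ⧸ J₂)) ⟶ D.obj k := cl J₂
  have hi₀ : IsClosedImmersion i₀ :=
    inferInstanceAs (IsClosedImmersion (Spec.map (CommRingCat.ofHom (Ideal.Quotient.mk J₂))))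
  have hp0 := (K634.Quot.isPullback_quot (B.val : B →+* A) J₂).flip
  have hp : ∃ q'' : Spec (CommRingCat.of (A ⧸ J)) ⟶ Spec (CommRingCat.of (B ⧸ J₂)),
      IsPullback q'' (cl J) i₀ (c.π.app k) := by
    have key : ∀ (J' : Ideal A) (_ : J' = J) (q'' : Spec (CommRingCat.of (A ⧸ J')) ⟶ Spec (CommRingCat.of (B ⧸ J₂))),
        IsPullback q'' (Spec.map (CommRingCat.ofHom (Ideal.Quotient.mk J'))) i₀ (c.π.app k) →
        ∃ q'' : Spec (CommRingCat.of (A ⧸ J)) ⟶ Spec (CommRingCat.of (B ⧸ J₂)),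
      IsPullback q'' (cl J) i₀ (c.π.app k) := by
      rintro J' rfl q'' h
      exact ⟨q'', h⟩
    exact key _ hJ₂ _ hp0
  obtain ⟨q'', hp⟩ := hp
  have main := of_stages (isLimitSpecCone A) T₂ G₂ i₀ q'' (cl J) hp (fun l f => by
    let B' : Subalgebra ℤ A := l.unop.1
    let φ : B →+* B' := (Subalgebra.inclusion (leOfHom f.unop)).toRingHom
    have hN : IsNoetherianRing B' := noeth_of_fg B' l.unop.2
    have hJ' : IsNilpotent (J₂.map φ) := by
      obtain ⟨n, hn⟩ := hJ₂n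
      exact ⟨n, by rw [← Ideal.map_pow, hn, Ideal.zero_eq_bot, Ideal.map_bot]; rfl⟩
    have hq'B' : IsUnit ((q : ℕ) : B') := by
      refine isUnit_iff_exists_inv.mpr ⟨φ ⟨q', hsB q' (Set.mem_insert _ _)⟩, ?_⟩
      apply Subtype.ext
      have : (((q : ℕ) : B') : A) = (q : A) := by simp
      change (((q : ℕ) : B') : A) * q' = 1
      rw [this, hq']
    have hpb := (K634.Quot.isPullback_quot φ J₂).flip
    have hpb' : IsPullback (Spec.map (CommRingCat.ofHom (K634.Quot.qmap φ J₂)))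
      (cl (J₂.map φ)) i₀ (D.map f) := hpb
    have hL : LiftP (cl (J₂.map φ)) (Red.bc (D.map f) T₂) (Red.bc (D.map f) G₂) := by
      refine noeth h8440 hJ' r _ _ (TorusAlgClosed.dsBcIso (D.map f) (Fin r → ℤ)).symm ?_ ?_ ?_ ?_ q hq hq'B'
      · exact MorphismProperty.pullback_snd _ _ j4
      · exact MorphismProperty.pullback_snd _ _ j2
      · exact MorphismProperty.pullback_snd _ _ j3
      · exact MorphismProperty.pullback_snd _ _ j1
    exact hL.of_iso_base hpb'.isoPullback hpb'.isoPullback_hom_snd)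
  let T' : Over c.pt := T
  let gT : GrpObj T' := ‹GrpObj T›
  have e' : Grp.mk (Red.DS c.pt (Fin r → ℤ)) ≅ Grp.mk T' := e.symm
  have eT : Grp.mk (Red.bc (c.π.app k) T₂) ≅ Grp.mk T' :=
    TorusAlgClosed.dsBcIso (c.π.app k) (Fin r → ℤ) ≪≫ e'
  exact LiftP.of_iso (T' := T') (G' := G') main (isoOf eT) (isoOf e₂)

end K13.CT.Split
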