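import Groth.Agent.SGA3x.K13.CT.Nil
import Groth.Agent.SGA3x.K13.CT.Split
import Groth.Agent.Sga3B.TorusEtLoc920
import Groth.Agent.Sga3.H786.TCMain

/-!
# Lifting central subtori modulo nilpotent ideals

S8387 from S8440.
-/

set_option autoImplicit false
universe u
open CategoryTheory CategoryTheory.Limits MonoidalCategory CartesianMonoidalCategory MonObj GrpObj AlgebraicGeometry

namespace K13.CT.Main

open K210.LimHom Groth.Agent Groth.Agent.Sga3B Groth.Agent.Sga3B.BcPts Groth.Agent.Sga3B.BorDesc613 K10.MTLoc K13.MTLift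
  K13.CT.Ev K13.CT.Lim K13.CT.Nil K13.CentralEtale

section central

variable {S S' : Scheme.{u}}

lemma isCentral_map {X Y : Over S} [GrpObj Y] (g : S' ⟶ S) (v : X ⟶ Y) (h : IsCentral v) :
    IsCentral ((Over.pullback g).map v) := by
  rw [isCentral_map_iff]
  rw [isCentral_iff] at h
  rw [h]

end central

section ring

variable {A : Type u} [CommRing A] {J : Ideal A}

/-- tori from tori modulo nil ideals -/
theorem isTorus_of_reduction (hJ : ∀ x ∈ J, IsNilpotent x) {H : Over (Spec (CommRingCat.of A))} [GrpObj H]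
    {H₀ : Over (Spec (CommRingCat.of (A ⧸ J)))} [GrpObj H₀] (hH : SGA3x.IsMultTypeFT H)
    (e : Grp.mk (Red.bc (cl J) H) ≅ Grp.mk H₀) (h : Red.IsTorus H₀) : Red.IsTorus H := by
  have i1 := K10.MTLoc.isAffineHom hH
  have i2 := K10.MTLoc.locallyOfFinitePresentation hH
  have i3 := K10.MTLoc.flat hH
  have h0 := TorusAlgClosed.smooth_of_isTorus h
  have hsm : Smooth H.hom := smooth_of_reduction hJ (isoOf e) h0
  refine (Groth.Agent.Sga3.H786.TC.isTorus H fun s => ?_).2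
  obtain ⟨p, hp⟩ := exists_factor_field hJ (Red.geomPt s)
  have e1 : Grp.mk (Red.geomFibre s H) ≅ Grp.mk (Red.bc p H₀) :=
    BcIso.bcCongrIso hp.symm H ≪≫ BcIso.bcCompIso p (cl J) H ≪≫ BcIso.bcMapIso p e
  exact TorusBc.isTorus_of_iso e1.symm (TorusBc.isTorus_bc p h)

/-- the local statement -/
theorem exists_local (h8440 : type_of% @SGA3x.GrothFrozen.S8440.{u}) (hfg : J.FG) (hJ : ∀ x ∈ J, IsNilpotent x)
    (T G : Over (Spec (CommRingCat.of A))) [GrpObj T] [GrpObj G] (hT : Red.IsTorus T) [Flat G.hom]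
    [QuasiCompact G.hom] [QuasiSeparated G.hom] [LocallyOfFinitePresentation G.hom]
    (u₀ : Red.bc (cl J) T ⟶ Red.bc (cl J) G) [IsMonHom u₀] [Mono u₀] (hc : IsCentral u₀)
    (s : Spec (CommRingCat.of A)) :
    ∃ (W : Scheme.{u}) (p : W ⟶ Spec (CommRingCat.of A)) (_ : Etale p)
      (_ : s ∈ Set.range p) (u : Red.bc p T ⟶ Red.bc p G), IsMonHom u ∧
        ∀ (X : Over (Spec (CommRingCat.of A))) (x : X ⟶ T) (t : X ⟶ Over.mk p) (s : X ⟶ Over.mk (cl J)),
          ev u x t = ev u₀ x s := by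
  obtain ⟨B₀, _, v₀, r, hv₀, ⟨y₀, hy₀⟩, ⟨ε₀⟩⟩ := TorusEtLoc920.exists_etale_split T hT s
  -- an integer `q > 1` invertible at `y₀`
  obtain ⟨q, hq, hqy⟩ : ∃ q : ℕ, 1 < q ∧ ((q : ℕ) : B₀) ∉ y₀.asIdeal := by
    by_cases h2 : ((2 : ℕ) : B₀) ∈ y₀.asIdeal
    · refine ⟨3, by norm_num, fun h3 => y₀.isPrime.ne_top ((Ideal.eq_top_iff_one _).2 ?_)⟩
      have : (1 : B₀) = ((3 : ℕ) : B₀) - ((2 : ℕ) : B₀) := by push_cast; ring
      rw [this]
      exact Ideal.sub_mem _ h3 h2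
    · exact ⟨2, by norm_num, h2⟩
  let B := Localization.Away ((q : ℕ) : B₀)
  let j : Spec (CommRingCat.of B) ⟶ Spec (CommRingCat.of B₀) := Spec.map (CommRingCat.ofHom (algebraMap B₀ B))
  have hj : IsOpenImmersion j := inferInstance
  have hy : y₀ ∈ Set.range j := by
    have h1 : Set.range j = (PrimeSpectrum.basicOpen ((q : ℕ) : B₀) : Set (PrimeSpectrum B₀)) :=
      PrimeSpectrum.localization_away_comap_range B ((q : ℕ) : B₀)
    rw [h1]
    exact hqy
  have hqu : IsUnit ((q : ℕ) : B) := by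
    have := IsLocalization.Away.algebraMap_isUnit (S := B) ((q : ℕ) : B₀)
    rwa [map_natCast] at this
  obtain ⟨ψ, hψ⟩ := Spec.map_surjective (j ≫ v₀)
  let v : Spec (CommRingCat.of B) ⟶ Spec (CommRingCat.of A) := Spec.map (CommRingCat.ofHom ψ.hom)
  have hvj : v = j ≫ v₀ := hψ
  have hv : Etale v := by rw [hvj]; infer_instance
  have hs : s ∈ Set.range v := by
    obtain ⟨y, hy⟩ := hy
    exact ⟨y, by rw [hvj, Scheme.Hom.comp_apply, hy, hy₀]⟩
  have ε : Grp.mk (Red.bc v T) ≅ Grp.mk (Red.DS (Spec (CommRingCat.of B)) (Fin r → ℤ)) :=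
    BcIso.bcCongrIso hvj T ≪≫ BcIso.bcCompIso j v₀ T ≪≫ BcIso.bcMapIso j ε₀ ≪≫
      TorusAlgClosed.dsBcIso j (Fin r → ℤ)
  let K : Ideal B := J.map ψ.hom
  have hKfg : K.FG := hfg.map _
  have hK : ∀ x ∈ K, IsNilpotent x := by
    obtain ⟨n, hn⟩ := Split.nilpotent_of_fg hfg hJ
    have : IsNilpotent K := ⟨n, by rw [← Ideal.map_pow, hn, Ideal.zero_eq_bot, Ideal.map_bot]; rfl⟩
    exact Noeth.nil_of_isNilpotent this
  have g1 : Flat (Red.bc v G).hom := MorphismProperty.pullback_snd _ _ inferInstance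
  have g2 : QuasiCompact (Red.bc v G).hom := MorphismProperty.pullback_snd _ _ inferInstance
  have g3 : QuasiSeparated (Red.bc v G).hom := MorphismProperty.pullback_snd _ _ inferInstance
  have g4 : LocallyOfFinitePresentation (Red.bc v G).hom := MorphismProperty.pullback_snd _ _ inferInstance
  have hL : LiftP (cl K) (Red.bc v T) (Red.bc v G) := Split.main h8440 hKfg hK r _ _ ε q hq hqu
  let qm : Spec (CommRingCat.of (B ⧸ K)) ⟶ Spec (CommRingCat.of (A ⧸ J)) :=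
    Spec.map (CommRingCat.ofHom (K634.Quot.qmap ψ.hom J))
  have hpb : IsPullback (cl K) qm v (cl J) := K634.Quot.isPullback_quot ψ.hom J
  have hqm : qm ≫ cl J = cl K ≫ v := hpb.w.symm
  have k1 : IsMonHom (mv qm (cl J) hqm u₀) := inferInstance
  have k2 : Mono (mv qm (cl J) hqm u₀) := (mono_mv_iff _ _ _ _).mpr inferInstance
  have k3 : IsCentral (mv qm (cl J) hqm u₀) := (isCentral_mv_iff _ _ _ _).mpr (isCentral_map _ _ hc)
  obtain ⟨w, hw, hw'⟩ := hL.exists_mv rfl (mv qm (cl J) hqm u₀) k3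
  refine ⟨_, v, hv, hs, w, hw, fun X x t s => ?_⟩
  have hts : t.left ≫ v = s.left ≫ cl J := (Over.w t).trans (Over.w s).symm
  let σ : X ⟶ Over.mk (cl K ≫ v) := Over.homMk (hpb.lift t.left s.left hts) (by
    change hpb.lift t.left s.left hts ≫ cl K ≫ v = X.hom
    rw [← Category.assoc, hpb.lift_fst]
    exact Over.w t)
  have e1 := ev_mv (cl K) v rfl w x σ
  have e2 := ev_mv qm (cl J) hqm u₀ x σ
  have e3 : σ ≫ (Over.homMk (cl K) rfl : Over.mk (cl K ≫ v) ⟶ Over.mk v) = t := by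
    ext1
    exact hpb.lift_fst _ _ _
  have e4 : σ ≫ (Over.homMk qm hqm : Over.mk (cl K ≫ v) ⟶ Over.mk (cl J)) = s := by
    ext1
    exact hpb.lift_snd _ _ _
  rw [e3] at e1
  rw [e4] at e2
  rw [← e1, ← e2, hw']

/-- **Lifting central monomorphisms from tori.** -/
theorem liftP (h8440 : type_of% @SGA3x.GrothFrozen.S8440.{u}) (hfg : J.FG) (hJ : ∀ x ∈ J, IsNilpotent x)
    (T G : Over (Spec (CommRingCat.of A))) [GrpObj T] [GrpObj G] (hT : Red.IsTorus T) [Flat G.hom]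
    [QuasiCompact G.hom] [QuasiSeparated G.hom] [LocallyOfFinitePresentation G.hom] : LiftP (cl J) T G := by
  intro u₀ h1 h2 hc
  exact exists_glue (Split.nilpotent_of_fg hfg hJ) (K21.MultLoc.isMultTypeFT_of_isTorus hT) u₀ hc
    (exists_local h8440 hfg hJ T G hT u₀ hc)

theorem main (h8440 : type_of% @SGA3x.GrothFrozen.S8440.{u}) (hJfg : J.FG)
    (hJ : ∀ x ∈ J, IsNilpotent x) (G : Over (Spec (CommRingCat.of A))) [GrpObj G] [Flat G.hom] [QuasiCompact G.hom]
    [QuasiSeparated G.hom] [LocallyOfFinitePresentation G.hom]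
    (T₀ : Over (Spec (CommRingCat.of (A ⧸ J)))) [GrpObj T₀] (j₀ : T₀ ⟶ Red.bc (cl J) G) [IsMonHom j₀] [Mono j₀]
    (ht₀ : Red.IsTorus T₀) (hc₀ : (∀ (X : Over _) (x : X ⟶ _) (g : X ⟶ Red.bc (cl J) G), (x ≫ j₀) * g = g * (x ≫ j₀))) :
    (∃ (T : Over (Spec (CommRingCat.of A))) (_ : GrpObj T) (j : T ⟶ G), IsMonHom j ∧ Mono j ∧ Red.IsTorus T ∧
      (∃ e : Red.bc (cl J) T ≅ T₀, e.hom ≫ j₀ = (Over.pullback (cl J)).map j) ∧
      (∀ (X : Over _) (x : X ⟶ _) (g : X ⟶ G), (x ≫ j) * g = g * (x ≫ j)) ∧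
      ∀ (T' : Over (Spec (CommRingCat.of A))) [GrpObj T'] (j' : T' ⟶ G) [IsMonHom j'] [Mono j'], Red.IsTorus T' →
        (∃ e' : Red.bc (cl J) T' ≅ T₀, e'.hom ≫ j₀ = (Over.pullback (cl J)).map j') →
        ∃ φ : T' ≅ T, φ.hom ≫ j = j') := by
  have hJn := Split.nilpotent_of_fg hJfg hJ
  obtain ⟨T, _, hTm, ⟨e⟩⟩ := K13.MTLift.exists_lift J hJ T₀ (K21.MultLoc.isMultTypeFT_of_isTorus ht₀)
  have hT : Red.IsTorus T := isTorus_of_reduction hJ hTm e ht₀
  have hTsm : Smooth T.hom := TorusAlgClosed.smooth_of_isTorus hT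
  let u₀ : Red.bc (cl J) T ⟶ Red.bc (cl J) G := (isoOf e).hom ≫ j₀
  have hu₀c : IsCentral u₀ := fun X g n => by
    have := hc₀ X (n ≫ (isoOf e).hom) g
    simp only [Category.assoc] at this
    exact this.symm
  obtain ⟨j, hj, hj'⟩ := liftP h8440 hJfg hJ T G hT u₀ inferInstance (mono_comp _ _) hu₀c
  -- centrality of homomorphisms lifting `u₀`-like homomorphisms
  have hred : ∀ (Y : Over (Spec (CommRingCat.of A))) (_ : Y ⟶ Over.mk (cl J)) (g : Y ⟶ T) (h : Y ⟶ G),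
      (g ≫ j) * h = h * (g ≫ j) := by
    intro Y y g h
    rw [← ev_map (f := cl J) j g y, hj']
    exact (ev_central u₀ hu₀c g y h).symm
  have hjc := central_of_red hJn hTm j hred
  have i4 : LocallyOfFiniteType T.hom := inferInstance
  have i5 : LocallyOfFiniteType j.left := by
    have : LocallyOfFiniteType (j.left ≫ G.hom) := by rw [Over.w]; exact i4
    exact locallyOfFiniteType_of_comp j.left G.hom
  have hmono : Mono j := by
    have h1 : Mono ((Over.pullback (cl J)).map j).left := by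
      rw [hj']
      have : Mono u₀ := mono_comp _ _
      infer_instance
    have := mono_of_reduction hJ j h1
    exact Over.mono_of_mono_left j
  refine ⟨T, inferInstance, j, hj, hmono, hT, ⟨isoOf e, hj'.symm⟩, hjc, ?_⟩
  intro T' _ j' _ _ hT' ⟨e', he'⟩
  have hT'm := K21.MultLoc.isMultTypeFT_of_isTorus hT'
  have hT'sm : Smooth T'.hom := TorusAlgClosed.smooth_of_isTorus hT'
  have he'm : IsMonHom e'.hom := isMonHom_of_comp_mono e'.hom j₀ (by rw [he']; infer_instance)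
  have he'i : IsMonHom e'.inv := inferInstance
  have hTc := K13.NTorsion.mul_comm_of_isMT (K21.MultLoc.isMult_of_isMultTypeFT hTm)
  have hT'c := K13.NTorsion.mul_comm_of_isMT (K21.MultLoc.isMult_of_isMultTypeFT hT'm)
  have l1 : LocallyOfFinitePresentation T.hom := inferInstance
  have l2 : LocallyOfFinitePresentation T'.hom := inferInstance
  obtain ⟨ψ, hψ, hψ₀⟩ := Noeth.exists_hom_lift_torus hJn (T' := T) (K21.MultLoc.isMult_of_isMultTypeFT hT'm)
    (e'.hom ≫ (isoOf e).inv)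
  obtain ⟨ψ', hψ', hψ'₀⟩ := Noeth.exists_hom_lift_torus hJn (T' := T') (K21.MultLoc.isMult_of_isMultTypeFT hTm)
    ((isoOf e).hom ≫ e'.inv)
  have h1 : ψ ≫ ψ' = 𝟙 T' := by
    refine eq_of_red hJn hT'm _ _ (fun Y _ g h => hT'c _ _ _) (fun Y y g => ?_)
    refine K8.CentralNil.agree_of_map_eq (x := cl J) ?_ Y y g
    rw [Functor.map_comp, CategoryTheory.Functor.map_id]
    refine (congrArg₂ (· ≫ ·) hψ₀ hψ'₀).trans ?_
    simp
  have h2 : ψ' ≫ ψ = 𝟙 T := by
    refine eq_of_red hJn hTm _ _ (fun Y _ g h => hTc _ _ _) (fun Y y g => ?_)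
    refine K8.CentralNil.agree_of_map_eq (x := cl J) ?_ Y y g
    rw [Functor.map_comp, CategoryTheory.Functor.map_id]
    refine (congrArg₂ (· ≫ ·) hψ'₀ hψ₀).trans ?_
    simp
  refine ⟨⟨ψ, ψ', h1, h2⟩, ?_⟩
  change ψ ≫ j = j'
  refine eq_of_red hJn hT'm _ _ (fun Y _ g h => ?_) (fun Y y g => ?_)
  · rw [← Category.assoc]
    exact hjc Y (g ≫ ψ) h
  · refine K8.CentralNil.agree_of_map_eq (x := cl J) ?_ Y y g
    rw [Functor.map_comp]
    refine (congrArg₂ (· ≫ ·) hψ₀ hj').trans ?_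
    rw [← he']
    simp [u₀]

end ring

end K13.CT.Main
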