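import Groth.Agent.SGA3x.K13.CT.Lim
import Groth.Agent.Sga3B.BorDesc613
import Groth.Agent.Sga3B.AdAff

/-!
# Points of base changes: `ev` and `mv`
-/

set_option autoImplicit false
universe u
open CategoryTheory CategoryTheory.Limits MonoidalCategory CartesianMonoidalCategory MonObj GrpObj AlgebraicGeometry

namespace K13.CT.Ev

open K210.LimHom Groth.Agent.Sga3B Groth.Agent.Sga3B.BcPts Groth.Agent.Sga3B.BorDesc613

variable {S S' S'' : Scheme.{u}}

lemma bcEquiv_left_fst (f : S' ⟶ S) {T : Over S'} {X : Over S} (y : (Over.map f).obj T ⟶ X) :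
    (bcEquiv f T X y).left ≫ pullback.fst X.hom f = y.left := by
  have h := AdAff.bcEquiv_symm_left f (bcEquiv f T X y)
  rw [Equiv.symm_apply_apply] at h
  exact h.symm

variable {f : S' ⟶ S}

lemma ev_left {X Y : Over S} (φ : Red.bc f X ⟶ Red.bc f Y) {T : Over S} (x : T ⟶ X) (t : T ⟶ Over.mk f) :
    (ev φ x t).left = pullback.lift x.left t.left
      (by rw [Over.w x]; exact (Over.w t).symm) ≫ φ.left ≫ pullback.fst Y.hom f := by
  unfold ev
  rw [Over.comp_left, overIso_inv_left, AdAff.bcEquiv_symm_left, Over.comp_left, Category.assoc]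
  refine (Category.id_comp _).trans ?_
  congr 1
  apply pullback.hom_ext
  · rw [bcEquiv_left_fst, pullback.lift_fst, Over.comp_left, overIso_hom_left]
    exact Category.id_comp _
  · rw [pullback.lift_snd]
    exact Over.w (bcEquiv f (Over.mk t.left) X ((overIso t).hom ≫ x))

@[reassoc]
lemma bcCompIso_inv_left_fst {S S₁ S₂ : Scheme.{u}} (g : S₂ ⟶ S₁) (f : S₁ ⟶ S) {d : S₂ ⟶ S} (h : g ≫ f = d)
    (X : Over S) : (ActBC.bcCompIso g f X h).inv.left ≫ pullback.fst (Red.bc f X).hom g =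
      pullback.lift (pullback.fst X.hom d) (pullback.snd X.hom d ≫ g)
        (by rw [Category.assoc, h, pullback.condition]) := by
  have h1 : IsIso (ActBC.bcCompIso g f X h).hom.left :=
    inferInstanceAs (IsIso ((Over.forget _).map (ActBC.bcCompIso g f X h).hom))
  rw [← cancel_epi (ActBC.bcCompIso g f X h).hom.left, ← Category.assoc, ← Over.comp_left, Iso.hom_inv_id,
    Over.id_left, Category.id_comp]
  apply pullback.hom_ext
  · rw [Category.assoc, pullback.lift_fst, ActBC.bcCompIso_hom_left_fst]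
  · rw [Category.assoc, pullback.lift_snd, ActBC.bcCompIso_hom_left_snd_assoc]
    exact pullback.condition

lemma mv_left_fst {S S₁ S₂ : Scheme.{u}} (g : S₂ ⟶ S₁) (f : S₁ ⟶ S) {d : S₂ ⟶ S} (h : g ≫ f = d) {X Y : Over S}
    (v : Red.bc f X ⟶ Red.bc f Y) :
    (mv g f h v).left ≫ pullback.fst Y.hom d =
      pullback.lift (pullback.fst X.hom d) (pullback.snd X.hom d ≫ g)
        (by rw [Category.assoc, h, pullback.condition]) ≫ v.left ≫ pullback.fst Y.hom f := by
  rw [mv, Over.comp_left, Over.comp_left, Category.assoc, Category.assoc, ActBC.bcCompIso_hom_left_fst,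
    ActBC.pullback_map_left_fst_assoc, bcCompIso_inv_left_fst_assoc]

/-- The values of a base changed family. -/
lemma ev_mv (g : S'' ⟶ S') (f : S' ⟶ S) {d : S'' ⟶ S} (h : g ≫ f = d) {X Y : Over S}
    (v : Red.bc f X ⟶ Red.bc f Y) {T : Over S} (x : T ⟶ X) (s : T ⟶ Over.mk d) :
    ev (mv g f h v) x s = ev v x (s ≫ (Over.homMk g h : Over.mk d ⟶ Over.mk f)) := by
  ext1
  rw [ev_left, ev_left, mv_left_fst, ← Category.assoc]
  congr 1
  apply pullback.hom_ext
  · rw [Category.assoc, pullback.lift_fst, pullback.lift_fst, pullback.lift_fst]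
  · rw [Category.assoc, pullback.lift_snd, pullback.lift_snd, pullback.lift_snd_assoc]
    rfl

/-- The tautological point. -/
noncomputable def tau (f : S' ⟶ S) (Y : Over S') : (Over.map f).obj Y ⟶ Over.mk f := Over.homMk Y.hom rfl

/-- Composition in terms of values. -/
lemma comp_eq {X Y : Over S} (φ : Red.bc f X ⟶ Red.bc f Y) {T : Over S'} (y : T ⟶ Red.bc f X) :
    y ≫ φ = bcEquiv f T Y (ev φ ((bcEquiv f T X).symm y) (tau f T)) := by
  apply (bcEquiv f T Y).symm.injective
  rw [Equiv.symm_apply_apply]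
  ext1
  rw [AdAff.bcEquiv_symm_left, ev_left, Over.comp_left, Category.assoc]
  congr 1
  apply pullback.hom_ext
  · rw [pullback.lift_fst, AdAff.bcEquiv_symm_left]
  · rw [pullback.lift_snd]
    exact Over.w y

/-- Values of a central family. -/
lemma ev_central {X Y : Over S} [GrpObj Y] (φ : Red.bc f X ⟶ Red.bc f Y) (hφ : IsCentral φ) {T : Over S}
    (x : T ⟶ X) (t : T ⟶ Over.mk f) (g : T ⟶ Y) : g * ev φ x t = ev φ x t * g := by
  have h1 := hφ _ (bcEquiv f (Over.mk t.left) Y ((overIso t).hom ≫ g))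
    (bcEquiv f (Over.mk t.left) X ((overIso t).hom ≫ x))
  have h2 := congrArg (fun k => (overIso t).inv ≫ (bcMulEquiv f (Over.mk t.left) Y).symm k) h1
  simp only [map_mul, MonObj.comp_mul] at h2
  have h3 : (overIso t).inv ≫ (bcMulEquiv f (Over.mk t.left) Y).symm
      (bcEquiv f (Over.mk t.left) Y ((overIso t).hom ≫ g)) = g := by
    refine (congrArg (fun k => (overIso t).inv ≫ k) (Equiv.symm_apply_apply (bcEquiv f _ Y) _)).trans ?_
    rw [Iso.inv_hom_id_assoc]
  rw [h3] at h2
  exact h2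

/-- A homomorphism from its values. -/
lemma isMonHom_of_ev {J : Type u} {S' : J → Scheme.{u}} (v : ∀ i, S' i ⟶ S)
    [∀ i, Flat (v i)] [∀ i, LocallyOfFinitePresentation (v i)] (hv : ∀ s : S, ∃ i, s ∈ Set.range (v i))
    {X Y : Over S} [GrpObj X] [GrpObj Y] (φ : ∀ i, Red.bc (v i) X ⟶ Red.bc (v i) Y) [∀ i, IsMonHom (φ i)] (g : X ⟶ Y)
    (hg : ∀ i (T : Over S) (x : T ⟶ X) (t : T ⟶ Over.mk (v i)), x ≫ g = ev (φ i) x t) : IsMonHom g := by
  refine IsoFam.isMonHom_of_mul _ fun T x y => ?_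
  refine hom_ext v hv fun i Z z t => ?_
  rw [MonObj.comp_mul, ← Category.assoc, ← Category.assoc, ← Category.assoc, MonObj.comp_mul, hg i _ _ t, hg i _ _ t,
    hg i _ _ t, ev_mul]

end K13.CT.Ev
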