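import Groth.Agent.SGA3.K210.LimHom2
import Groth.Agent.Ega43.LimitDescendIso

/-!
# Central monomorphic homomorphisms over a closed subscheme of a limit of bases

* `exists_stage`: a central monomorphic homomorphism of finitely presented groups over the limit of a cofiltered system
  of bases is defined over some stage.
* `exists_stage_closed`: the same for homomorphisms over `Z ×_{D k} c.pt`, for a `D k`-scheme `Z`.
-/

set_option autoImplicit false
set_option backward.isDefEq.respectTransparency false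
set_option backward.defeqAttrib.useBackward true
universe u
open CategoryTheory CategoryTheory.Limits MonoidalCategory CartesianMonoidalCategory MonObj GrpObj AlgebraicGeometry

namespace K13.CT.Lim

open K210.LimHom Groth.Agent.Ega43.LimitDescend Groth.Agent.Ega43.LimitDescendIso Groth.Agent.Sga3.H515.GrpModel

section basic

variable {S S₁ S₂ : Scheme.{u}} (g : S₂ ⟶ S₁) (f : S₁ ⟶ S) {d : S₂ ⟶ S} (h : g ≫ f = d) {G H : Over S}
  [GrpObj G] [GrpObj H]

omit [GrpObj G] in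
/-- monomorphy of `mv` -/
lemma mono_mv_iff {X Y : Over S} (v : Red.bc f X ⟶ Red.bc f Y) : Mono (mv g f h v) ↔ Mono ((Over.pullback g).map v) := by
  constructor
  · intro h1
    rw [(map_eq_iff_mv g f h v _).mpr rfl]
    infer_instance
  · intro h1
    unfold mv
    infer_instance

omit [GrpObj H] in
/-- centrality is invariant under isomorphisms -/
lemma isCentral_conj {G' H' : Over S} [GrpObj G'] (u : H ⟶ G) (a : H' ⟶ H) (b : G ≅ G') [IsMonHom b.hom]
    (hu : IsCentral u) : IsCentral (a ≫ u ≫ b.hom) := by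
  intro T g n
  obtain ⟨g', rfl⟩ : ∃ g', g' ≫ b.hom = g := ⟨g ≫ b.inv, by rw [Category.assoc, b.inv_hom_id, Category.comp_id]⟩
  have h1 : n ≫ a ≫ u ≫ b.hom = ((n ≫ a) ≫ u) ≫ b.hom := by simp only [Category.assoc]
  rw [h1, ← MonObj.mul_comp, ← MonObj.mul_comp, hu]

omit [GrpObj H] in
lemma isCentral_mv_iff (v : Red.bc f H ⟶ Red.bc f G) :
    IsCentral (mv g f h v) ↔ IsCentral ((Over.pullback g).map v) := by
  constructor
  · intro h1
    rw [(map_eq_iff_mv g f h v _).mpr rfl]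
    have : IsMonHom (ActBC.bcCompIso g f G h).symm.hom := inferInstanceAs (IsMonHom (ActBC.bcCompIso g f G h).inv)
    exact isCentral_conj _ _ (ActBC.bcCompIso g f G h).symm h1
  · intro h1
    exact isCentral_conj _ _ (ActBC.bcCompIso g f G h) h1

lemma isMonHom_mv_iff (v : Red.bc f H ⟶ Red.bc f G) :
    IsMonHom (mv g f h v) ↔ IsMonHom ((Over.pullback g).map v) := by
  constructor
  · intro h1
    rw [(map_eq_iff_mv g f h v _).mpr rfl]
    infer_instance
  · intro h1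
    infer_instance

end basic

section limit

variable {I : Type u} [SmallCategory I] [IsCofiltered I]
    {D : I ⥤ Scheme.{u}} {c : Cone D} (hc : IsLimit c)
    [∀ (i i' : I) (f : i ⟶ i'), IsAffineHom (D.map f)]
    [∀ i, CompactSpace (D.obj i)] [∀ i, QuasiSeparatedSpace (D.obj i)]

include hc

/-- Central monomorphic homomorphisms over the limit come from a stage. -/
theorem exists_stage {k : I} (T G : Over (D.obj k)) [GrpObj T] [GrpObj G]
    [LocallyOfFinitePresentation T.hom] [QuasiCompact T.hom] [QuasiSeparated T.hom]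
    [LocallyOfFinitePresentation G.hom] [QuasiCompact G.hom] [QuasiSeparated G.hom]
    (u : Red.bc (c.π.app k) T ⟶ Red.bc (c.π.app k) G) [IsMonHom u] [Mono u] (hcen : IsCentral u) :
    ∃ (l : I) (f : l ⟶ k) (v : Red.bc (D.map f) T ⟶ Red.bc (D.map f) G), IsMonHom v ∧ Mono v ∧ IsCentral v ∧
      mv (c.π.app l) (D.map f) (c.w f) v = u := by
  obtain ⟨l, f, v, hv⟩ := exists_map_eq_of hc T G u
  rw [map_eq_iff_mv] at hv
  have h1 : IsMonHom ((Over.pullback (c.π.app l)).map v) := by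
    rw [← isMonHom_mv_iff _ _ (c.w f), hv]; infer_instance
  have h2 : Mono ((Over.pullback (c.π.app l)).map v) := by
    rw [← mono_mv_iff _ _ (c.w f), hv]; infer_instance
  have h3 : IsCentral ((Over.pullback (c.π.app l)).map v) := by
    rw [← isCentral_mv_iff _ _ (c.w f), hv]; exact hcen
  -- homomorphism
  have e1 : ∃ (i : I) (a : i ⟶ l), IsMonHom ((Over.pullback (D.map a)).map v) := by
    obtain ⟨i, a, ha⟩ := exists_map_eq hc _ _ ((isMonHom_map_iff _ v).mp h1)
    exact ⟨i, a, (isMonHom_map_iff _ v).mpr ha⟩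
  have e2 : ∃ (i : I) (a : i ⟶ l), IsCentral ((Over.pullback (D.map a)).map v) := by
    obtain ⟨i, a, ha⟩ := exists_map_eq hc _ _ ((isCentral_map_iff _ v).mp h3)
    exact ⟨i, a, (isCentral_map_iff _ v).mpr ha⟩
  have e3 : ∃ (i : I) (a : i ⟶ l), Mono ((Over.pullback (D.map a)).map v) := by
    obtain ⟨i, a, ha⟩ := exists_prop_map hc descendsLim_monomorphisms v
      (inferInstanceAs (Mono ((Over.forget _).map ((Over.pullback (c.π.app l)).map v))))
    exact ⟨i, a, (Over.forget _).mono_of_mono_map ha⟩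
  have m1 : ∀ {i i' : I} (g : i' ⟶ i) (a : i ⟶ l), IsMonHom ((Over.pullback (D.map a)).map v) →
      IsMonHom ((Over.pullback (D.map (g ≫ a))).map v) := by
    intro i i' g a h
    rw [isMonHom_map_iff] at h ⊢
    rw [D.map_comp]
    exact map_comp_eq_map_comp _ _ _ _ h
  have m2 : ∀ {i i' : I} (g : i' ⟶ i) (a : i ⟶ l), IsCentral ((Over.pullback (D.map a)).map v) →
      IsCentral ((Over.pullback (D.map (g ≫ a))).map v) := fun g a h =>
    isCentral_map_comp (D.map g) (D.map a) (D.map_comp g a).symm v h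
  have m3 : ∀ {i i' : I} (g : i' ⟶ i) (a : i ⟶ l), Mono ((Over.pullback (D.map a)).map v) →
      Mono ((Over.pullback (D.map (g ≫ a))).map v) := fun g a h =>
    mono_map_comp (D.map g) (D.map a) (D.map_comp g a).symm v h
  obtain ⟨l', a, ha1, ha2, ha3⟩ := stage_and m1 (fun g a h => ⟨m2 g a h.1, m3 g a h.2⟩) e1 (stage_and m2 m3 e2 e3)
  refine ⟨l', a ≫ f, mv (D.map a) (D.map f) (D.map_comp a f).symm v, ?_, ?_, ?_, ?_⟩
  · rw [isMonHom_mv_iff]; exact ha1
  · rw [mono_mv_iff]; exact ha3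
  · rw [isCentral_mv_iff]; exact ha2
  · rw [mv_mv _ _ _ (c.w a) _ (c.w f), hv]

end limit

section closed

/-- Change of base of a morphism over an iterated base change. -/
noncomputable def cp {S S₁ S₂ : Scheme.{u}} (g : S₂ ⟶ S₁) (f : S₁ ⟶ S) {d : S₂ ⟶ S} (h : g ≫ f = d) {X Y : Over S}
    (v : Red.bc g (Red.bc f X) ⟶ Red.bc g (Red.bc f Y)) : Red.bc d X ⟶ Red.bc d Y :=
  (ActBC.bcCompIso g f X h).inv ≫ v ≫ (ActBC.bcCompIso g f Y h).hom

theorem mv_cp {S S₁ S₂ S₃ : Scheme.{u}} (f₃ : S₃ ⟶ S₂) (f₂ : S₂ ⟶ S₁) (f₁ : S₁ ⟶ S)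
    {a : S₃ ⟶ S₁} (ha : f₃ ≫ f₂ = a) {b : S₂ ⟶ S} (hb : f₂ ≫ f₁ = b) {d : S₃ ⟶ S} (hd : a ≫ f₁ = d)
    (hd' : f₃ ≫ b = d) {X Y : Over S} (v : Red.bc f₂ (Red.bc f₁ X) ⟶ Red.bc f₂ (Red.bc f₁ Y)) :
    mv f₃ b hd' (cp f₂ f₁ hb v) = cp a f₁ hd (mv f₃ f₂ ha v) := by
  rw [← map_eq_iff_mv, cp, Functor.map_comp, Functor.map_comp, ← cancel_mono (ActBC.bcCompIso f₃ b Y hd').hom]
  simp only [Category.assoc, Iso.inv_hom_id, Category.comp_id]
  rw [bcCompIso_assoc f₃ f₂ f₁ ha hb hd hd', cp, mv]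
  have h1 := bcCompIso_assoc f₃ f₂ f₁ ha hb hd hd' X
  have h2 : (Over.pullback f₃).map (ActBC.bcCompIso f₂ f₁ X hb).inv ≫ (ActBC.bcCompIso f₃ f₂ (Red.bc f₁ X) ha).hom =
      (ActBC.bcCompIso f₃ b X hd').hom ≫ (ActBC.bcCompIso a f₁ X hd).inv := by
    rw [Iso.eq_comp_inv, Category.assoc, ← h1, ← Functor.map_comp_assoc, Iso.inv_hom_id]
    simp
  rw [← reassoc_of% h2]
  simp

variable {I : Type u} [SmallCategory I] [IsCofiltered I]
    {D : I ⥤ Scheme.{u}} {c : Cone D} (hc : IsLimit c)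
    [∀ (i i' : I) (f : i ⟶ i'), IsAffineHom (D.map f)]
    [∀ i, CompactSpace (D.obj i)] [∀ i, QuasiSeparatedSpace (D.obj i)]

include hc

/-- Central monomorphic homomorphisms over `Z ×_{D k} c.pt` come from a stage. -/
theorem exists_stage_closed {k : I} (T G : Over (D.obj k)) [GrpObj T] [GrpObj G]
    [LocallyOfFinitePresentation T.hom] [QuasiCompact T.hom] [QuasiSeparated T.hom]
    [LocallyOfFinitePresentation G.hom] [QuasiCompact G.hom] [QuasiSeparated G.hom]
    {Z S₀ : Scheme.{u}} (i₀ : Z ⟶ D.obj k) [QuasiCompact i₀] [QuasiSeparated i₀] (q : S₀ ⟶ Z) (p : S₀ ⟶ c.pt)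
    (hp : IsPullback q p i₀ (c.π.app k))
    (u : Red.bc (q ≫ i₀) T ⟶ Red.bc (q ≫ i₀) G) [IsMonHom u] [Mono u] (hcen : IsCentral u) :
    ∃ (l : I) (f : l ⟶ k) (v : Red.bc (pullback.fst i₀ (D.map f) ≫ i₀) T ⟶ Red.bc (pullback.fst i₀ (D.map f) ≫ i₀) G)
      (a : S₀ ⟶ pullback i₀ (D.map f)) (h₁ : a ≫ pullback.fst i₀ (D.map f) = q)
      (_ : a ≫ pullback.snd i₀ (D.map f) = p ≫ c.π.app l),
      IsMonHom v ∧ Mono v ∧ IsCentral v ∧
        mv a (pullback.fst i₀ (D.map f) ≫ i₀) (by rw [← Category.assoc, h₁]) v = u := by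
  let t : ∀ i : Over k, (Over.forget k ⋙ D).obj i ⟶ D.obj k := fun i ↦ D.map i.hom
  have ht : ∀ {i i' : Over k} (φ : i ⟶ i'), (Over.forget k ⋙ D).map φ ≫ t i' = t i :=
    fun φ ↦ overT_w D k φ
  have hp' : ∀ i, (overCone c k).π.app i ≫ t i = c.π.app k := fun i ↦ by
    simp [t]
  have hl := isLimitPbCone t ht i₀ (overCone c k) (c.π.app k) hp' q p hp (isLimitOverCone c hc k)
  let c' := pbCone t ht i₀ (overCone c k) (c.π.app k) hp' q p hp
  let D' := pbDiagram t ht i₀
  let j : Over k := Over.mk (𝟙 k)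
  let r : D'.obj j ⟶ D.obj k := pullback.fst i₀ (t j) ≫ i₀
  have hr : c'.π.app j ≫ r = q ≫ i₀ := by
    rw [← Category.assoc, pbCone_π_fst]
  have i1 : ∀ i, CompactSpace (D'.obj i) := fun i => inferInstance
  have i2 : ∀ i, QuasiSeparatedSpace (D'.obj i) := fun i => inferInstance
  have i3 : ∀ (i i' : Over k) (f : i ⟶ i'), IsAffineHom (D'.map f) := fun i i' f => inferInstance
  let u' : Red.bc (c'.π.app j) (Red.bc r T) ⟶ Red.bc (c'.π.app j) (Red.bc r G) :=
    (ActBC.bcCompIso _ r T hr).hom ≫ u ≫ (ActBC.bcCompIso _ r G hr).inv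
  have hu1 : IsMonHom u' := inferInstance
  have hu2 : Mono u' := inferInstance
  have hu3 : IsCentral u' := by
    have : IsMonHom (ActBC.bcCompIso (c'.π.app j) r G hr).symm.hom :=
      inferInstanceAs (IsMonHom (ActBC.bcCompIso (c'.π.app j) r G hr).inv)
    exact isCentral_conj _ _ (ActBC.bcCompIso (c'.π.app j) r G hr).symm hcen
  obtain ⟨l, f, v, hv1, hv2, hv3, hv4⟩ := exists_stage (D := D') (c := c') hl (k := j) (Red.bc r T) (Red.bc r G) u' hu3
  have hf : l.hom = f.left := by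
    have := Over.w f
    simpa [j] using this.symm
  have hrf : D'.map f ≫ r = pullback.fst i₀ (D.map l.hom) ≫ i₀ := by
    rw [← Category.assoc, pbDiagram_map_fst]
  have ha1 : c'.π.app l ≫ pullback.fst i₀ (D.map l.hom) = q := pbCone_π_fst ..
  refine ⟨l.left, l.hom, cp (D'.map f) r hrf v, c'.π.app l, ha1, pbCone_π_snd .., ?_, ?_, ?_, ?_⟩
  · unfold cp; infer_instance
  · unfold cp; infer_instance
  · exact isCentral_conj _ _ (ActBC.bcCompIso (D'.map f) r G hrf) hv3
  · rw [mv_cp (c'.π.app l) (D'.map f) r (c'.w f) hrf hr, hv4]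
    simp [cp, u']

end closed

end K13.CT.Lim
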