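import Groth.Agent.SGA3x.K13.CT.Ev
import Groth.Agent.SGA3x.K13.MTLiftProps
import Groth.Agent.SGA3x.K8.CentralNil
import Groth.Agent.S5280

/-!
# Uniqueness of central lifts modulo nilpotent ideals, families version
-/

set_option autoImplicit false
universe u
open CategoryTheory CategoryTheory.Limits MonoidalCategory CartesianMonoidalCategory MonObj GrpObj AlgebraicGeometry

namespace K13.CT.Nil

open K210.LimHom Groth.Agent.Sga3B Groth.Agent.Sga3B.BcPts Groth.Agent.Sga3B.BorDesc613 K10.MTLoc K13.MTLift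
  K13.CT.Ev

section ring

variable {A : Type u} [CommRing A] {J : Ideal A}

lemma ker_nilpotent (hJ : IsNilpotent J) (x : Spec (CommRingCat.of A)) :
    ∃ U : (Spec (CommRingCat.of A)).affineOpens, x ∈ (U : (Spec (CommRingCat.of A)).Opens) ∧
      IsNilpotent ((cl J).ker.ideal U) := by
  refine ⟨⟨⊤, isAffineOpen_top _⟩, trivial, ?_⟩
  obtain ⟨n, hn⟩ := hJ
  refine ⟨n, ?_⟩
  let γ := (Scheme.ΓSpecIso (CommRingCat.of A)).inv.hom
  have h1 : (cl J).ker.ideal ⟨⊤, isAffineOpen_top _⟩ ≤ J.map γ := by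
    intro a ha
    rw [Scheme.Hom.ker_apply, RingHom.mem_ker] at ha
    have h2 := Scheme.ΓSpecIso_naturality (CommRingCat.ofHom (Ideal.Quotient.mk J))
    have h3 := congrArg (fun k => k.hom a) h2
    simp only [CommRingCat.hom_comp, RingHom.comp_apply, CommRingCat.hom_ofHom] at h3
    have h4 : ((cl J).appTop).hom a = 0 := ha
    have h5 : Ideal.Quotient.mk J ((Scheme.ΓSpecIso (CommRingCat.of A)).hom.hom a) = 0 := by
      rw [← h3]
      refine (congrArg _ h4).trans (map_zero _)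
    rw [Ideal.Quotient.eq_zero_iff_mem] at h5
    have h6 := Ideal.mem_map_of_mem γ h5
    have h7 : γ ((Scheme.ΓSpecIso (CommRingCat.of A)).hom.hom a) = a :=
      congr($((Scheme.ΓSpecIso (CommRingCat.of A)).hom_inv_id).hom a)
    rwa [h7] at h6
  have h2 : (J.map γ) ^ n = ⊥ := by rw [← Ideal.map_pow, hn, Ideal.zero_eq_bot, Ideal.map_bot]
  exact le_bot_iff.mp ((Ideal.pow_right_mono h1 n).trans h2.le)

/-- Centrality modulo a nilpotent ideal. -/
theorem central_of_red (hJ : IsNilpotent J) {T G : Over (Spec (CommRingCat.of A))} [GrpObj T] [GrpObj G]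
    (hT : SGA3x.IsMultTypeFT T) [LocallyOfFinitePresentation G.hom] (u : T ⟶ G) [IsMonHom u]
    (h0 : ∀ (Y : Over (Spec (CommRingCat.of A))) (_ : Y ⟶ Over.mk (cl J)) (g : Y ⟶ T) (h : Y ⟶ G),
      (g ≫ u) * h = h * (g ≫ u)) :
    ∀ (Y : Over (Spec (CommRingCat.of A))) (g : Y ⟶ T) (h : Y ⟶ G), (g ≫ u) * h = h * (g ≫ u) := by
  have : IsClosedImmersion (cl J) := IsClosedImmersion.spec_of_surjective _ Ideal.Quotient.mk_surjective
  exact Groth.Agent.S5280.result (cl J) (ker_nilpotent hJ) T G (K21.MultLoc.isMult_of_isMultTypeFT hT) u h0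

/-- Uniqueness modulo a nilpotent ideal. -/
theorem eq_of_red (hJ : IsNilpotent J) {T G : Over (Spec (CommRingCat.of A))} [GrpObj T] [GrpObj G]
    (hT : SGA3x.IsMultTypeFT T) [LocallyOfFinitePresentation G.hom] (u v : T ⟶ G) [IsMonHom u] [IsMonHom v]
    (h0 : ∀ (Y : Over (Spec (CommRingCat.of A))) (_ : Y ⟶ Over.mk (cl J)) (g : Y ⟶ T) (h : Y ⟶ G),
      (g ≫ u) * h = h * (g ≫ u))
    (h1 : ∀ (Y : Over (Spec (CommRingCat.of A))) (_ : Y ⟶ Over.mk (cl J)) (g : Y ⟶ T), g ≫ u = g ≫ v) : u = v := by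
  have hc := central_of_red hJ hT u h0
  obtain ⟨n, hn⟩ := hJ
  refine K8.CentralNil.eq_of_pow n J ?_ T G (K21.MultLoc.isMult_of_isMultTypeFT hT) u v
    (fun X g h => (hc X h g).symm) h1
  have h2 : n ≤ 2 ^ n := Nat.lt_two_pow_self.le
  exact le_bot_iff.mp ((Ideal.pow_le_pow_right h2).trans hn.le)

/-- Two families of central lifts agree on affine test objects. -/
theorem ev_eq_of_affine (hJ : IsNilpotent J) {T G : Over (Spec (CommRingCat.of A))} [GrpObj T] [GrpObj G]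
    (hT : SGA3x.IsMultTypeFT T) [LocallyOfFinitePresentation G.hom]
    (u₀ : Red.bc (cl J) T ⟶ Red.bc (cl J) G) (hc : IsCentral u₀) {W W' : Scheme.{u}}
    {p : W ⟶ Spec (CommRingCat.of A)} {p' : W' ⟶ Spec (CommRingCat.of A)}
    (u : Red.bc p T ⟶ Red.bc p G) (u' : Red.bc p' T ⟶ Red.bc p' G) [IsMonHom u] [IsMonHom u']
    (hu : ∀ (X : Over (Spec (CommRingCat.of A))) (x : X ⟶ T) (t : X ⟶ Over.mk p) (s : X ⟶ Over.mk (cl J)),
      ev u x t = ev u₀ x s)
    (hu' : ∀ (X : Over (Spec (CommRingCat.of A))) (x : X ⟶ T) (t : X ⟶ Over.mk p') (s : X ⟶ Over.mk (cl J)),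
      ev u' x t = ev u₀ x s)
    {R : Type u} [CommRing R] (ψ : A →+* R)
    (x : Over.mk (Spec.map (CommRingCat.ofHom ψ)) ⟶ T) (t : Over.mk (Spec.map (CommRingCat.ofHom ψ)) ⟶ Over.mk p)
    (t' : Over.mk (Spec.map (CommRingCat.ofHom ψ)) ⟶ Over.mk p') : ev u x t = ev u' x t' := by
  let b : Spec (CommRingCat.of R) ⟶ Spec (CommRingCat.of A) := Spec.map (CommRingCat.ofHom ψ)
  have hb : t.left ≫ p = b := Over.w t
  have hb' : t'.left ≫ p' = b := Over.w t'
  let K : Ideal R := J.map ψ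
  have hK : IsNilpotent K := by
    obtain ⟨n, hn⟩ := hJ
    exact ⟨n, by rw [← Ideal.map_pow, hn, Ideal.zero_eq_bot, Ideal.map_bot]; rfl⟩
  let qm : Spec (CommRingCat.of (R ⧸ K)) ⟶ Spec (CommRingCat.of (A ⧸ J)) :=
    Spec.map (CommRingCat.ofHom (Ideal.quotientMap K ψ Ideal.le_comap_map))
  have hqm : qm ≫ cl J = cl K ≫ b := by
    rw [← Spec.map_comp, ← Spec.map_comp]
    rfl
  have key : mv t.left p hb u = mv t'.left p' hb' u' := by
    have hlfp : LocallyOfFinitePresentation (Red.bc b G).hom := MorphismProperty.pullback_snd _ _ inferInstance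
    refine eq_of_red hK (K21.MultLoc.isMultTypeFT_bc b hT) _ _ (fun Y y g h => ?_) (fun Y y g => ?_)
    · let s : (Over.map b).obj Y ⟶ Over.mk (cl J) := Over.homMk (y.left ≫ qm) (by
        change (y.left ≫ qm) ≫ cl J = Y.hom ≫ b
        rw [Category.assoc, hqm, ← Category.assoc]
        congr 1
        exact Over.w y)
      obtain ⟨h', rfl⟩ := (bcEquiv b Y G).surjective h
      rw [comp_eq, ← bcEquiv_mul, ← bcEquiv_mul, ev_mv, hu _ _ _ s]
      exact congrArg _ (ev_central u₀ hc _ _ _).symm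
    · let s : (Over.map b).obj Y ⟶ Over.mk (cl J) := Over.homMk (y.left ≫ qm) (by
        change (y.left ≫ qm) ≫ cl J = Y.hom ≫ b
        rw [Category.assoc, hqm, ← Category.assoc]
        congr 1
        exact Over.w y)
      rw [comp_eq, comp_eq, ev_mv, ev_mv, hu _ _ _ s, hu' _ _ _ s]
  have h1 := ev_mv t.left p hb u x (𝟙 _)
  have h2 := ev_mv t'.left p' hb' u' x (𝟙 _)
  rw [Category.id_comp] at h1 h2
  have e1 : (Over.homMk t.left hb : Over.mk b ⟶ Over.mk p) = t := by ext1; rfl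
  have e2 : (Over.homMk t'.left hb' : Over.mk b ⟶ Over.mk p') = t' := by ext1; rfl
  rw [e1] at h1
  rw [e2] at h2
  rw [← h1, ← h2, key]

/-- Two families of central lifts agree. -/
theorem ev_eq (hJ : IsNilpotent J) {T G : Over (Spec (CommRingCat.of A))} [GrpObj T] [GrpObj G]
    (hT : SGA3x.IsMultTypeFT T) [LocallyOfFinitePresentation G.hom]
    (u₀ : Red.bc (cl J) T ⟶ Red.bc (cl J) G) (hc : IsCentral u₀) {W W' : Scheme.{u}}
    {p : W ⟶ Spec (CommRingCat.of A)} {p' : W' ⟶ Spec (CommRingCat.of A)}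
    (u : Red.bc p T ⟶ Red.bc p G) (u' : Red.bc p' T ⟶ Red.bc p' G) [IsMonHom u] [IsMonHom u']
    (hu : ∀ (X : Over (Spec (CommRingCat.of A))) (x : X ⟶ T) (t : X ⟶ Over.mk p) (s : X ⟶ Over.mk (cl J)),
      ev u x t = ev u₀ x s)
    (hu' : ∀ (X : Over (Spec (CommRingCat.of A))) (x : X ⟶ T) (t : X ⟶ Over.mk p') (s : X ⟶ Over.mk (cl J)),
      ev u' x t = ev u₀ x s)
    {X : Over (Spec (CommRingCat.of A))} (x : X ⟶ T) (t : X ⟶ Over.mk p) (t' : X ⟶ Over.mk p') :
    ev u x t = ev u' x t' := by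
  apply OverAff898.hom_ext_of_covers
  intro z
  obtain ⟨_, ⟨V, hV, rfl⟩, hzV, -⟩ := X.left.isBasis_affineOpens.exists_subset_of_mem_open
    (show z ∈ (⊤ : X.left.Opens) from trivial) (⊤ : X.left.Opens).2
  obtain ⟨φ, hφ⟩ := Spec.map_surjective (hV.fromSpec ≫ X.hom)
  let j : Over.mk (Spec.map (CommRingCat.ofHom φ.hom)) ⟶ X := Over.homMk hV.fromSpec hφ.symm
  refine ⟨_, j, inferInstanceAs (IsOpenImmersion hV.fromSpec), ?_, ?_⟩
  · change z ∈ Set.range hV.fromSpec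
    rw [IsAffineOpen.range_fromSpec]
    exact hzV
  · rw [comp_ev, comp_ev]
    exact ev_eq_of_affine hJ hT u₀ hc u u' hu hu' φ.hom _ _ _

/-- **Gluing of central lifts.** -/
theorem exists_glue (hJ : IsNilpotent J) {T G : Over (Spec (CommRingCat.of A))} [GrpObj T] [GrpObj G]
    (hT : SGA3x.IsMultTypeFT T) [LocallyOfFinitePresentation G.hom]
    (u₀ : Red.bc (cl J) T ⟶ Red.bc (cl J) G) (hc : IsCentral u₀)
    (hloc : ∀ s : Spec (CommRingCat.of A), ∃ (W : Scheme.{u}) (p : W ⟶ Spec (CommRingCat.of A)) (_ : Etale p)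
      (_ : s ∈ Set.range p) (u : Red.bc p T ⟶ Red.bc p G), IsMonHom u ∧
        ∀ (X : Over (Spec (CommRingCat.of A))) (x : X ⟶ T) (t : X ⟶ Over.mk p) (s : X ⟶ Over.mk (cl J)),
          ev u x t = ev u₀ x s) :
    ∃ u : T ⟶ G, IsMonHom u ∧ (Over.pullback (cl J)).map u = u₀ := by
  choose W p hp hs u hu hu' using hloc
  have hflat : ∀ s, Flat (p s) := fun s => inferInstance
  have hlfp : ∀ s, LocallyOfFinitePresentation (p s) := fun s => inferInstance
  have hv : ∀ s : Spec (CommRingCat.of A), ∃ i, s ∈ Set.range (p i) := fun s => ⟨s, hs s⟩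
  obtain ⟨g, hg, -⟩ := existsUnique_hom p hv u (fun i j X x t t' =>
    ev_eq hJ hT u₀ hc (u i) (u j) (hu' i) (hu' j) x t t')
  refine ⟨g, isMonHom_of_ev p hv u g hg, ?_⟩
  apply eq_of_ev
  intro X x s
  rw [ev_map]
  refine hom_ext p hv fun i Z z t => ?_
  rw [← Category.assoc, hg i Z (z ≫ x) t, comp_ev, hu' i Z (z ≫ x) t (z ≫ s)]

end ring

end K13.CT.Nil
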