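import Groth.Agent.SGA3x.K13.CT.Tors
import Groth.Agent.SGA3x.K13.CT.Lim
import Groth.Agent.SGA3x.K14.FinLift
import Groth.Agent.SGA3x.K13.CentralEtale
import Groth.Agent.SGA3x.K21.MultLoc
import Groth.Agent.SGA3x.K7.SubLift
import Groth.Agent.Sga3B.TorusBc
import Groth.Statements.S8440

/-!
# Lifting central homomorphisms from split tori: the noetherian case

From S8440.
-/

set_option autoImplicit false

universe u

open CategoryTheory MonoidalCategory CartesianMonoidalCategory MonObj GrpObj AlgebraicGeometry Limits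
open Groth.Agent Groth.Agent.Sga3B K10.MTLoc K13.MTLift

namespace K13.CT.Noeth

open K13.NTorsion K13.CentralEtale K13.CT.Tors K210.LimHom

variable {A : Type u} [CommRing A] {J : Ideal A}

lemma nil_of_isNilpotent (hJ : IsNilpotent J) : ∀ x ∈ J, IsNilpotent x := by
  intro x hx
  obtain ⟨n, hn⟩ := hJ
  refine ⟨n, ?_⟩
  have := Ideal.pow_mem_pow hx n
  rwa [hn] at this

/-- inclusions between torsion subgroups -/
lemma exists_incl {S : Scheme.{u}} {L L' H : Over S} [GrpObj L] [GrpObj L'] [GrpObj H] {ℓ : L ⟶ H} {ℓ' : L' ⟶ H}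
    {a b : ℕ} (h : IsTors a ℓ) (h' : IsTors b ℓ') (hab : a ∣ b) :
    ∃ f : L ⟶ L', IsMonHom f ∧ f ≫ ℓ' = ℓ ∧ AlgGrp.IsKernel f ((𝟙 L' : L' ⟶ L') ^ a) := by
  have k1 := h.mon
  have k2 := h.mono
  have k3 := h'.mon
  have k4 := h'.mono
  have h1 : ℓ ^ b = 1 := by
    have h2 : ℓ ^ a = 1 := (h.pts _ ℓ).1 ⟨𝟙 _, Category.id_comp _⟩
    obtain ⟨d, hd⟩ := hab
    rw [hd, pow_mul, h2, one_pow]
  obtain ⟨f, hf⟩ := (h'.pts _ ℓ).2 h1
  have hfm : Mono f := by
    have : Mono (f ≫ ℓ') := by rw [hf]; infer_instance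
    exact mono_of_mono f ℓ'
  have hfh : IsMonHom f := isMonHom_of_comp_mono f ℓ' (by rw [hf]; infer_instance)
  refine ⟨f, hfh, hf, isKernel a fun X h => ?_⟩
  constructor
  · rintro ⟨y, rfl⟩
    rw [← cancel_mono ℓ', K13.NTorsion.pow_comp, Category.assoc, hf, MonObj.one_comp]
    exact (IsTors.pts ‹IsTors a ℓ› X (y ≫ ℓ)).1 ⟨y, rfl⟩
  · intro hh
    obtain ⟨y, hy⟩ := (IsTors.pts ‹IsTors a ℓ› X (h ≫ ℓ')).2
      (by rw [← K13.NTorsion.pow_comp, hh, MonObj.one_comp])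
    refine ⟨y, ?_⟩
    rw [← cancel_mono ℓ', Category.assoc, hf, hy]

/-- homomorphisms from groups of multiplicative type to tori lift -/
theorem exists_hom_lift_torus (hJ : IsNilpotent J) {T T' : Over (Spec (CommRingCat.of A))} [GrpObj T] [GrpObj T']
    (hT : K7.MTHaar.IsMT T) [Smooth T'.hom] (ω : Red.bc (cl J) T ⟶ Red.bc (cl J) T') [IsMonHom ω] :
    ∃ ψ : T ⟶ T', IsMonHom ψ ∧ (Over.pullback (cl J)).map ψ = ω := by
  obtain ⟨B, _, _, e, he, l, hl⟩ := K7.MTHaar.exists_model hT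
  have he' : IsMonHom e.inv := inferInstance
  obtain ⟨j, hj, hj'⟩ := K7.SubLift.exists_hom_lift hJ (inferInstance : Smooth T'.hom) hl
    ((Over.pullback (cl J)).map e.inv ≫ ω)
  refine ⟨e.hom ≫ j, inferInstance, ?_⟩
  rw [Functor.map_comp]
  refine (congrArg (fun k => (Over.pullback (cl J)).map e.hom ≫ k) hj').trans ?_
  rw [← Category.assoc, ← Functor.map_comp, e.hom_inv_id, CategoryTheory.Functor.map_id]
  exact Category.id_comp _

theorem main (h8440 : type_of% @SGA3x.GrothFrozen.S8440.{u}) [IsNoetherianRing A] (hJ : IsNilpotent J) (r : ℕ)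
    (G : Over (Spec (CommRingCat.of A))) [GrpObj G] [Flat G.hom]
    [QuasiCompact G.hom] [QuasiSeparated G.hom] [LocallyOfFinitePresentation G.hom]
    (u₀ : Red.bc (cl J) (Red.DS (Spec (CommRingCat.of A)) (Fin r → ℤ)) ⟶ Red.bc (cl J) G) [IsMonHom u₀] [Mono u₀]
    (hc₀ : IsCentral u₀) (q : ℕ) (hq : 1 < q) (hqu : IsUnit (q : A)) :
    ∃ u : Red.DS (Spec (CommRingCat.of A)) (Fin r → ℤ) ⟶ G, IsMonHom u ∧ (Over.pullback (cl J)).map u = u₀ := by
  let S := Spec (CommRingCat.of A)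
  let N : ℕ → Type := fun k => (Fin r → ℤ) ⧸ nM (q ^ k) (Fin r → ℤ)
  let L : ℕ → Over S := fun k => Red.DS S (N k)
  let ℓ : ∀ k, L k ⟶ Red.DS S (Fin r → ℤ) := fun k => Red.DSmap S (QuotientAddGroup.mk' (nM (q ^ k) (Fin r → ℤ)))
  have hℓ : ∀ k, IsTors (q ^ k) (ℓ k) := fun k => isTors_DS S (q ^ k) (Fin r → ℤ)
  have hℓ1 : ∀ k, IsMonHom (ℓ k) := fun k => (hℓ k).mon
  have hℓ2 : ∀ k, Mono (ℓ k) := fun k => (hℓ k).mono
  have hnil := nil_of_isNilpotent hJ
  have hTor := Trans894.isTorus_DS S (Fin r → ℤ)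
  have hMT : SGA3x.IsMultTypeFT (Red.DS S (Fin r → ℤ)) := K21.MultLoc.isMultTypeFT_of_isTorus hTor
  have hMT' : K7.MTHaar.IsMT (Red.DS S (Fin r → ℤ)) := K21.MultLoc.isMult_of_isMultTypeFT hMT
  have i1 := K10.MTLoc.isAffineHom hMT
  have i2 := K10.MTLoc.locallyOfFinitePresentation hMT
  have i3 := K10.MTLoc.flat hMT
  have hcomm := mul_comm_of_isMT hMT'
  have hfin : ∀ k, IsFinite (L k).hom := fun k => by
    have := finite_quot r (q ^ k) (by positivity)
    exact isFinite_DS A (N k)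
  have het : ∀ k, Etale (L k).hom := fun k => etale_of_isTors (hℓ k) hcomm fun s => by
    let φ : A →+* S.residueField s := (Spec.preimage (S.fromSpecResidueField s)).hom
    have h1 : IsUnit (φ (q : A)) := hqu.map φ
    rw [map_natCast] at h1
    rw [Nat.cast_pow]
    exact pow_ne_zero _ h1.ne_zero
  have hLMT : ∀ k, SGA3x.IsMultTypeFT (L k) := fun k => by
    have := finite_quot r (q ^ k) (by positivity)
    exact K21.MultLoc.isMultTypeFT_DS (N k) inferInstance
  have isurj : Surjective (cl J) := surjective_cl hnil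
  have icl : IsClosedImmersion (cl J) := inferInstanceAs
    (IsClosedImmersion (Spec.map (CommRingCat.ofHom (Ideal.Quotient.mk J))))
  have hcc : ∀ k (X : Over (Spec (CommRingCat.of (A ⧸ J)))) (x : X ⟶ Red.bc (cl J) (L k))
      (g : X ⟶ Red.bc (cl J) G),
      (x ≫ ((Over.pullback (cl J)).map (ℓ k) ≫ u₀)) * g = g * (x ≫ ((Over.pullback (cl J)).map (ℓ k) ≫ u₀)) := by
    intro k X x g
    have := hc₀ X g (x ≫ (Over.pullback (cl J)).map (ℓ k))
    simp only [Category.assoc] at this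
    exact this.symm
  choose m hm1 hm2 hm3 hm4 using fun k => K14.FinLift.main (cl J) G (L k)
    ((Over.pullback (cl J)).map (ℓ k) ≫ u₀) (hcc k) (hLMT k)
  have hmm : ∀ k, Mono (m k) := fun k => by
    have i4 : LocallyOfFiniteType (L k).hom := inferInstance
    have i5 : LocallyOfFiniteType (m k).left := by
      have : LocallyOfFiniteType ((m k).left ≫ G.hom) := by rw [Over.w]; exact i4
      exact locallyOfFiniteType_of_comp (m k).left G.hom
    have h1 : Mono ((Over.pullback (cl J)).map (m k)).left := by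
      rw [hm2]
      have : Mono ((Over.pullback (cl J)).map (ℓ k) ≫ u₀) := mono_comp _ _
      infer_instance
    have := mono_of_reduction hnil (m k) h1
    exact Over.mono_of_mono_left (m k)
  have hcoh : ∀ j k : ℕ, j ≤ k → ∃ f : L j ⟶ L k, f ≫ m k = m j ∧
      AlgGrp.IsKernel f ((𝟙 (L k) : L k ⟶ L k) ^ (q ^ j)) := by
    intro j k hjk
    obtain ⟨f, hfh, hf, hk⟩ := exists_incl (hℓ j) (hℓ k) (pow_dvd_pow q hjk)
    refine ⟨f, hm4 j _ ?_ ?_, hk⟩
    · have := hm1 k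
      infer_instance
    · rw [Functor.map_comp, hm2, ← Category.assoc, ← Functor.map_comp, hf]
  obtain ⟨⟨T', _, j', hj1, hj2, hT', ⟨e, he⟩, -⟩, -⟩ := h8440 A J hJ G (Red.bc (cl J) (Red.DS S (Fin r → ℤ))) u₀
    (TorusBc.isTorus_bc _ hTor) q hq hqu L (fun k => inferInstance) m
    (fun k => ⟨hm1 k, hmm k, hLMT k⟩) hcoh
    (fun k => ⟨(Over.pullback (cl J)).map (ℓ k), (hm2 k).symm, isKernel_of_isTors ((hℓ k).bc (cl J))⟩)
  have hehom : IsMonHom e.hom := isMonHom_of_comp_mono e.hom u₀ (by rw [he]; infer_instance)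
  have heinv : IsMonHom e.inv := inferInstance
  have hT'sm : Smooth T'.hom := TorusAlgClosed.smooth_of_isTorus hT'
  obtain ⟨ψ, hψ, hψ'⟩ := exists_hom_lift_torus hJ hMT' (T' := T') e.inv
  refine ⟨ψ ≫ j', inferInstance, ?_⟩
  rw [Functor.map_comp, hψ', ← he, Iso.inv_hom_id_assoc]

end K13.CT.Noeth
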